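import Cfsg.Agent.Lib.YB.Upper

/-!
# The order of a group generated by a Y333 diagram (helper18)

The enumeration `T0` uses only the subgroup `Fi23.H`; it is replayed on a set induced from that subgroup.
-/

set_option autoImplicit false
set_option maxRecDepth 100000

namespace H18.YB

open Cfsg Cfsg.Spor H7 H54 H7.F23 H18.TC MulAction
open scoped Pointwise

universe u

noncomputable def qC (k : ℕ) : Bool := tb 383 k

noncomputable def Js.okZ (J : Js) : Bool :=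
  Js.rec (motive := fun _ => Bool) true (fun _ => true) (fun _ a _ _ => a.all qB)
    (fun _ a e a₂ _ _ a₃ _ _ => band (a.all qB) (band (e.all qC) (band (a₂.all qB) (a₃.all qB)))) J

theorem qC_H {k : ℕ} (h : qC k = true) : qH k = true ∧ k ≤ 8 := by
  have : k < 9 := tb_lt (by norm_num) h
  interval_cases k <;> first | exact ⟨rfl, by norm_num⟩ | exact Bool.noConfusion h

theorem memB {a : W} (h : a.all qB = true) : E.ev a ∈ Fi23.H :=
  W.ev_mem (fun _ hk => mem_H (qB_A hk).2.2) h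

theorem memS {a : W} (h : a.all qB = true) : E.ev (sgW a) ∈ Fi23.H :=
  memB (all_sgW (fun _ hk => (qB_A hk).2.1) h)

section rel

variable {X : Type*} [MulAction Γ X]

/-- the twist on an invariant subset -/
structure ActZ (Z : Set X) (σ : X → X) : Prop where
  inv : ∀ y, σ (σ y) = y
  smul : ∀ {g}, g ∈ Fi23.H → ∀ {y}, y ∈ Z → g • y ∈ Z
  mem : ∀ {y}, y ∈ Z → σ y ∈ Z
  lin : ∀ k, qB k = true → ∀ y ∈ Z, σ (E.s k • y) = E.s (sg k) • σ y
  com : ∀ k, qC k = true → ∀ y ∈ Z, σ (E.s 0 • σ (E.s k • y)) = E.s k • σ (E.s 0 • σ y)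

variable {Z : Set X} {σ : X → X} {x : ℕ → X} {T : ℕ → Fc} {n : ℕ}

theorem ActZ.linW (h : ActZ Z σ) {y : X} (hy : y ∈ Z) : ∀ {a : W}, a.all qB = true →
    σ (E.ev a • y) = E.ev (sgW a) • σ y
  | .nil, _ => by rw [show sgW .nil = .nil from rfl, E.ev_nil, one_smul, one_smul]
  | .cons k r, a => by
    rw [show sgW (.cons k r) = .cons (sg k) (sgW r) from rfl, ev_cons, ev_cons, mul_smul, mul_smul,
      h.lin k (W.all_cons.1 a).1 _ (h.smul (memB (W.all_cons.1 a).2) hy), h.linW hy (W.all_cons.1 a).2]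

theorem ActZ.comW (h : ActZ Z σ) {y : X} (hy : y ∈ Z) : ∀ {e : W}, e.all qC = true →
    σ (E.s 0 • σ (E.ev e • y)) = E.ev e • σ (E.s 0 • σ y)
  | .nil, _ => by rw [E.ev_nil, one_smul, one_smul]
  | .cons k r, a => by
    rw [ev_cons, mul_smul, mul_smul, h.com k (W.all_cons.1 a).1 (E.ev r • y)
      (h.smul (W.ev_mem (fun _ hk => mem_H (qC_H hk).1) (W.all_cons.1 a).2) hy), h.comW hy (W.all_cons.1 a).2]

/-- the words of the facts fix the point 0 -/
def Fix (T : ℕ → Fc) (n : ℕ) : Prop := ∀ c, c < n → A.act (T c).u 0 = 0 ∧ A.act (T c).v 0 = 0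

theorem mem_fix {w : W} (a : A.wf w = true) (b : A.act w 0 = 0) : E.ev w ∈ Fi23.H :=
  cent0 ▸ Env.ev_mem_cent (by decide) a ((band_eq_true _ _).2 ⟨Nat.beq_eq ▸ b, rfl⟩)

theorem All.viewZ (h : All E σ x T n) (hσ : ActZ Z σ) (hT : Fix T n) {c : ℕ} (e : okV T n c = true) :
    A.wf (vw T c).u = true ∧ A.wf (vw T c).v = true ∧
      σ (E.ev (vw T c).u • x (vw T c).i) = E.ev (vw T c).v • x (vw T c).j ∧
      E.ev (vw T c).u ∈ Fi23.H ∧ E.ev (vw T c).v ∈ Fi23.H := by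
  simp only [okV, force_eq, band_eq_true, Nat.ble_eq] at e
  obtain ⟨a, a', b⟩ := h _ e.1
  obtain ⟨d, d'⟩ := hT _ e.1
  rw [Fc.Holds, e.2, cond_true] at b
  unfold vw
  cases tb c 0
  · exact ⟨a, a', b, mem_fix a d, mem_fix a' d'⟩
  · exact ⟨a', a, by rw [← b, hσ.inv], mem_fix a' d', mem_fix a d⟩

theorem All.evalZ (h : All E σ x T n) (hσ : ActZ Z σ) (hT : Fix T n) (hx : ∀ i, x i ∈ Z) {g a : W}
    {i c : ℕ} {m : List ℕ} (hg : A.wf g = true) (ha : a.all qB = true) (e : evOk T n g i a c m = true) :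
    A.wf ((sgW a).app (vw T c).v) = true ∧
      σ (E.ev g • x i) = E.ev ((sgW a).app (vw T c).v) • x (vw T c).j := by
  simp only [evOk, band_eq_true, Nat.beq_eq] at e
  obtain ⟨e1, e2, e3, e4, e5⟩ := e
  obtain ⟨a1, a2, a3, a4, -⟩ := h.viewZ hσ hT e2
  obtain ⟨b1, b2⟩ := h.prod e4
  refine ⟨Alph.wf_app (wf_sgW e1) a2, ?_⟩
  rw [E_rigid.ev_eq hg (Alph.wf_app (wf_A e1) (Alph.wf_app a1 b1)) e5, E.ev_app, E.ev_app, mul_smul,
    mul_smul, b2, hσ.linW (hσ.smul a4 (hx i)) ha, ← e3, a3, E.ev_app, mul_smul]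

theorem All.jsZ (h : All E σ x T n) (hσ : ActZ Z σ) (hT : Fix T n) (hx : ∀ i, x i ∈ Z) {B : List ℕ}
    (hB : ∀ c ∈ B, (T c).Holds E σ x) (h1 : A.wf (T n).u = true) (h2 : A.wf (T n).v = true) :
    ∀ {J : Js}, J.okZ = true → J.ok T B n (T n) = true → (T n).Holds E σ x
  | .base, _, e => hB n (TC.mem_spec e)
  | .pr m, _, e => by
    simp only [Js.ok, band_eq_true, Bool.not_eq_true'] at e
    obtain ⟨a, b⟩ := h.prod e.2.1
    rw [Fc.Holds, e.1, cond_false, E_rigid.ev_eq h1 a e.2.2, b]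
  | .co c a d m, z, e => by
    simp only [Js.ok, band_eq_true, Bool.not_eq_true', Nat.beq_eq] at e
    obtain ⟨e1, e2, e3, e4, e5, e6⟩ := e
    obtain ⟨a1, a2, a3, -⟩ := h.viewZ hσ hT e2
    obtain ⟨b1, b2⟩ := h.evalZ hσ hT hx a1 z e3
    rw [a3, e4, e5, ← E_rigid.ev_eq (Alph.wf_app a2 h1) b1 e6, E.ev_app, mul_smul] at b2
    rw [Fc.Holds, e1, cond_false]
    exact (smul_left_cancel _ b2).symm
  | .er c a e a₂ c₂ m₂ a₃ c₃ m₃, z, q => by
    simp only [Js.ok, band_eq_true, Nat.beq_eq] at q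
    simp only [Js.okZ, band_eq_true] at z
    obtain ⟨e1, e2, e3, e4, e5, e6, e7, e8, e9, e10⟩ := q
    obtain ⟨z1, z2, z3, z4⟩ := z
    obtain ⟨a1, a2, a3, a4, a5⟩ := h.viewZ hσ hT e2
    have w0 : ∀ {w : W}, A.wf w = true → A.wf (W.cons 0 w) = true := fun h => W.all_cons.2 ⟨rfl, h⟩
    obtain ⟨b1, b2⟩ := h.evalZ hσ hT hx (w0 (Alph.wf_app (wf_A e3) a1)) z3 e5
    obtain ⟨c1, c2⟩ := h.evalZ hσ hT hx (Alph.wf_app (wf_E e4) (Alph.wf_app (wf_sgW e3) a2)) z4 e6
    have k : σ (E.ev ((sgW a).app (vw T c).v) • x (vw T c).j) = E.ev (a.app (vw T c).u) • x (vw T c).i := by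
      rw [E.ev_app, mul_smul, ← a3, ← hσ.linW (hσ.smul a4 (hx _)) z1, hσ.inv, E.ev_app, mul_smul]
    rw [E.ev_app e, mul_smul] at c2
    rw [Fc.Holds, e1, cond_true, E_rigid.ev_eq h1 (w0 c1) e9,
      E_rigid.ev_eq h2 (Alph.wf_app (wf_E e4) b1) e10, ev_cons, mul_smul, ← e7, ← c2,
      hσ.comW (hσ.smul (E.ev_app _ _ ▸ mul_mem (memS z1) a5) (hx _)) z2, k, ← mul_smul (E.s 0), ← ev_cons,
      b2, E.ev_app e, mul_smul, e8]

theorem All.stepZ (hσ : ActZ Z σ) {M : ℕ} (hT : Fix T M) (hx : ∀ i, x i ∈ Z) {B : List ℕ}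
    (hB : ∀ c ∈ B, (T c).Holds E σ x) {N : ℕ} : ∀ {js : List Js} {n : ℕ}, All E σ x T n →
      chkL T B N js n = true → band (Nat.ble (n + js.length) M) (allL Js.okZ js) = true → All E σ x T N
  | [], _, h, e, _ => Nat.eq_of_beq_eq_true e ▸ h
  | _ :: js, n, h, e, z => by
    obtain ⟨e1, e⟩ := (band_eq_true _ _).1 e
    obtain ⟨e2, e⟩ := (band_eq_true _ _).1 e
    obtain ⟨e3, e⟩ := (band_eq_true _ _).1 e
    obtain ⟨z0, z⟩ := (band_eq_true _ _).1 z
    obtain ⟨z1, z⟩ := (band_eq_true _ _).1 z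
    rw [Nat.ble_eq, List.length_cons] at z0
    refine All.stepZ hσ hT hx hB (js := js) (n := n + 1) (fun c hc => ?_) e
      ((band_eq_true _ _).2 ⟨Nat.ble_eq ▸ by omega, z⟩)
    rcases Nat.lt_succ_iff_lt_or_eq.1 hc with hc | rfl
    · exact h c hc
    · exact ⟨e1, e2, h.jsZ hσ (fun d hd => hT d (by omega)) hx hB e1 e2 z1 e3⟩

theorem All.coverZ (h : All E σ x T n) (hσ : ActZ Z σ) (hT : Fix T n) (hx : ∀ i, x i ∈ Z) {i N : ℕ}
    {ds : List (W × List ℕ)} {ss : List (W × ℕ × List ℕ × W)} {ops : List ℕ}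
    (e : rtOk T n i qB N [0] ⟨.nil, ds, ss, ops⟩ = true) :
    ∀ g ∈ E.cent [0], σ (g • x i) ∈ Un x N [0] := fun g hg => by
  simp only [rtOk, band_eq_true, allL_iff, mapL_eq] at e
  obtain ⟨e1, e2, e3, e4⟩ := e
  have hJ : ∀ k, qB k = true → E.s k ∈ lft fun g => g • x i ∈ Z → σ (g • x i) ∈ Un x N [0] :=
    fun k hk g => by
    have m := mem_H (qB_A hk).2.2
    have m' := cent0.ge (mem_H (qB_A (qB_A hk).2.1).2.2)
    beta_reduce
    rw [mul_smul]
    refine ⟨fun a b => ?_, fun a b => ?_⟩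
    · exact inv_smul_smul (E.s (sg k)) (σ (g • x i)) ▸
        Un.smul (inv_mem m') (hσ.lin k hk _ b ▸ a (hσ.smul m b))
    · replace b : g • x i ∈ Z := inv_smul_smul (E.s k) (g • x i) ▸ hσ.smul (inv_mem m) b
      exact hσ.lin k hk _ b ▸ Un.smul m' (a b)
  have := cover (w := 1) hJ (S := stabilizer Γ (x i))
    (fun s hs g a => by rwa [mul_smul, mem_stabilizer_iff.1 hs]) (List.forall_mem_map.2 fun d hd => ?_)
    (List.forall_mem_map.2 fun s hs => ?_) e4 g⁻¹ (inv_mem (cent0.le hg))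
  · rw [one_mul, inv_inv] at this
    exact this (hσ.smul (cent0.le hg) (hx i))
  · have := e2 d hd
    simp only [dOk, band_eq_true] at this
    obtain ⟨a, b⟩ := h.prod this.2.1
    have c := E_rigid.ev_eq (Alph.wf_app e1 (wf_L this.1)) (Alph.wf_app a e1) this.2.2
    rw [E.ev_app, E.ev_app, E.ev_nil] at c
    exact ⟨this.1, _, b, c⟩
  · have := e3 s hs
    simp only [sOk, band_eq_true, Nat.beq_eq, Nat.ble_eq] at this
    obtain ⟨f1, f2, f3, f4, f5, f6, f7, f8⟩ := this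
    obtain ⟨a1, a2, a3, -, a5⟩ := h.viewZ hσ hT f2
    obtain ⟨b1, b2⟩ := h.prod f6
    have c := E_rigid.ev_eq (Alph.wf_app a1 (Alph.wf_app b1 e1))
      (Alph.wf_app (wf_A (W.all_mono (fun k hk => (qB_A hk).1) f7)) (wf_L f1)) f8
    rw [E.ev_app, E.ev_app, E.ev_app, E.ev_nil, mul_one] at c
    refine ⟨f1, (W.ev_mem hJ f7 _).1 fun _ => ?_⟩
    change σ ((E.ev s.2.2.2 * (E.ev s.1 * 1⁻¹)) • x i) ∈ _
    rw [inv_one, mul_one, ← c, mul_smul, b2, ← f3, a3]
    exact ⟨_, f4, ⟨_, cent0.ge a5⟩, rfl⟩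

open T0 in
theorem mainZ (hσ : ActZ Z σ) {y : X} (hy : y ∈ Z) (h0 : ∀ k, qK k = true → E.s k • y = y)
    (h1 : σ y = y) : ∃ Y : Set X, y ∈ Y ∧ Y.Finite ∧ Y.ncard ≤ 2370830336 ∧
      (∀ g ∈ Fi23.H, ∀ z ∈ Y, g • z ∈ Y) ∧ ∀ z ∈ Y, σ z ∈ Y := by
  have hT : Fix T0.T 135 := by unfold Fix; decide +kernel
  have k : ∀ {w : W} {z : X}, band (A.wf w) (Nat.beq (A.act w 0) 0) = true → z ∈ Z → σ (E.ev w • z) ∈ Z :=
    fun a b => hσ.mem (hσ.smul (mem_fix ((band_eq_true _ _).1 a).1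
      (Nat.eq_of_beq_eq_true ((band_eq_true _ _).1 a).2)) b)
  have k1 : y1 σ y ∈ Z := k (by decide +kernel) hy
  have k3 : y3 σ y ∈ Z := k (by decide +kernel) k1
  have hx : ∀ i, xs σ y i ∈ Z := fun i => by
    unfold xs
    split
    exacts [k1, k (by decide +kernel) hy, k3, k (by decide +kernel) k1, k (by decide +kernel) k3, hy]
  have hB := base h0 h1
  have h := All.stepZ hσ hT hx hB (All.stepZ hσ hT hx hB (All.stepZ hσ hT hx hB All.zero s0
    (by decide +kernel)) s1 (by decide +kernel)) s2 (by decide +kernel)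
  have b := Un.bound (x := xs σ y) (P := [0]) (N := 6)
    (f := nth [28160, 35582976, 30412800, 800616960, 1358622720, 145566720]) fun j hj => by
    interval_cases j
    exacts [h.orbit_le l0 (by decide) (card_cent0 ▸ c0), h.orbit_le l1 (by decide) (card_cent0 ▸ c1),
      h.orbit_le l2 (by decide) (card_cent0 ▸ c2), h.orbit_le l3 (by decide) (card_cent0 ▸ c3),
      h.orbit_le l4 (by decide) (card_cent0 ▸ c4), h.orbit_le l5 (by decide) (card_cent0 ▸ c5)]
  refine ⟨Un (xs σ y) 6 [0], ⟨0, by norm_num, mem_orbit_self _⟩, b.1, b.2.trans (by decide +kernel),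
    fun _ hg _ => Un.smul (cent0.ge hg), fun _ => Un.twist fun j hj => ?_⟩
  interval_cases j
  exacts [h.coverZ hσ hT hx r0_0, h.coverZ hσ hT hx r1_0, h.coverZ hσ hT hx r2_0, h.coverZ hσ hT hx r3_0,
    h.coverZ hσ hT hx r4_0, h.coverZ hσ hT hx r5_0]

end rel

section induced

variable {G : Type*} [Group G] (H : Subgroup G) (X : Type*) [MulAction H X]

/-- the induced set -/
def Ind : Type _ := Quotient (⟨fun a b : G × X => ∃ h : H, b.1 * h = a.1 ∧ b.2 = h • a.2,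
  fun _ => ⟨1, mul_one _, (one_smul _ _).symm⟩,
  fun ⟨h, a, b⟩ => ⟨h⁻¹, by rw [← a]; simp, by rw [b, inv_smul_smul]⟩,
  fun ⟨h, a, b⟩ ⟨k, c, d⟩ => ⟨k * h, by rw [← a, ← c]; simp [mul_assoc], by rw [d, b, mul_smul]⟩⟩ :
    Setoid (G × X))

instance Ind.act : MulAction G (Ind H X) where
  smul g := Quotient.map' (fun a => (g * a.1, a.2)) fun _ _ ⟨h, a, b⟩ => ⟨h, by rw [← a, mul_assoc], b⟩
  one_smul y := Quotient.inductionOn' y fun a => congrArg Quotient.mk'' (Prod.ext (one_mul _) rfl)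
  mul_smul g k y := Quotient.inductionOn' y fun a => congrArg Quotient.mk'' (Prod.ext (mul_assoc _ _ _) rfl)

variable {X}

/-- the inclusion -/
def Ind.of (y : X) : Ind H X := Quotient.mk'' (1, y)

theorem Ind.of_inj : Function.Injective (Ind.of H (X := X)) := fun y z e => by
  obtain ⟨h, a, b⟩ := Quotient.exact' e
  rw [show h = 1 from Subtype.ext ((one_mul _).symm.trans a), one_smul] at b
  exact b.symm

theorem Ind.smul_of (h : H) (y : X) : (h : G) • Ind.of H y = Ind.of H (h • y) :=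
  Quotient.sound' ⟨h, (one_mul _).trans (mul_one _).symm, rfl⟩

end induced

theorem mainH {X : Type*} [MulAction Fi23.H X] {σ : X → X} {s : ℕ → Fi23.H}
    (hs : ∀ k, qH k = true → (s k : Γ) = E.s k) (inv : ∀ y, σ (σ y) = y)
    (lin : ∀ k, qB k = true → ∀ y, σ (s k • y) = s (sg k) • σ y)
    (com : ∀ k, qC k = true → ∀ y, σ (s 0 • σ (s k • y)) = s k • σ (s 0 • σ y)) {y : X}
    (h0 : ∀ k, qK k = true → s k • y = y) (h1 : σ y = y) : ∃ Y : Set X, y ∈ Y ∧ Y.Finite ∧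
      Y.ncard ≤ 2370830336 ∧ (∀ g : Fi23.H, ∀ z ∈ Y, g • z ∈ Y) ∧ ∀ z ∈ Y, σ z ∈ Y := by
  have i := Ind.of_inj Fi23.H (X := X)
  let σ' := Function.extend (Ind.of Fi23.H) (Ind.of Fi23.H ∘ σ) id
  have e : ∀ y, σ' (Ind.of _ y) = Ind.of _ (σ y) := i.extend_apply _ _
  have a : ∀ k, qH k = true → ∀ y : X, E.s k • Ind.of Fi23.H y = Ind.of _ (s k • y) := fun k hk y =>
    hs k hk ▸ Ind.smul_of _ _ _
  obtain ⟨Y, y1, y2, y3, y4, y5⟩ := mainZ (Z := Set.range (Ind.of Fi23.H)) (σ := σ') (y := Ind.of _ y)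
    ⟨fun z => by
      by_cases c : ∃ y, Ind.of Fi23.H y = z
      · obtain ⟨y, rfl⟩ := c
        rw [e, e, inv]
      · rw [show σ' z = z from Function.extend_apply' _ _ _ c]
        exact Function.extend_apply' _ _ _ c,
    by rintro g hg _ ⟨y, rfl⟩; exact ⟨_, (Ind.smul_of _ ⟨g, hg⟩ y).symm⟩,
    by rintro _ ⟨y, rfl⟩; exact ⟨_, (e y).symm⟩,
    by rintro k hk _ ⟨y, rfl⟩; rw [a k (qB_A hk).2.2, e, e, a _ (qB_A (qB_A hk).2.1).2.2, lin k hk],
    by rintro k hk _ ⟨y, rfl⟩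
       rw [a k (qC_H hk).1, e, e, a 0 rfl, a 0 rfl, e, e, a k (qC_H hk).1, com k hk]⟩
    ⟨y, rfl⟩ (fun k hk => by
      have : k < 10 := tb_lt (by norm_num) hk
      rw [a k (by interval_cases k <;> first | rfl | exact Bool.noConfusion hk), h0 k hk])
    (by rw [e, h1])
  exact ⟨Ind.of _ ⁻¹' Y, y1, y2.preimage i.injOn,
    (Set.ncard_le_ncard_of_injOn (Ind.of Fi23.H) (fun _ h => h) i.injOn y2).trans y3,
    fun g z hz => show Ind.of _ _ ∈ Y from Ind.smul_of _ g z ▸ y4 g g.2 _ hz,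
    fun z hz => show Ind.of _ _ ∈ Y from e z ▸ y5 _ hz⟩

/-- the letters of the four subgroups -/
def fA : List ℕ := [0, 1, 2, 3, 4, 5, 6, 8, 9]
def fA' : List ℕ := [10, 9, 8, 3, 4, 5, 6, 2, 1]
def fQ' : List ℕ := [10, 9, 8, 3, 2, 1, 0, 4, 5]

/-- relators of Y333 -/
def RK : List (List ℕ) := (Y332a.rels.map (List.map (lab fA 11)) ++ Y332a.rels.map (List.map (lab fA' 11))) ++
  (Fi22.R22.map (List.map (lab fQ 11)) ++ Fi22.R22.map (List.map (lab fQ' 11)))

section grp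

variable {G : Type u} [Group G] {g : ℕ → G}

theorem sat_prod {G' : Type*} [Group G'] {g' : ℕ → G'} {nc : ℕ} {R : List (List ℕ)} (h : Sat g nc R)
    (h' : Sat g' nc R) : Sat (fun k => (g k, g' k)) nc R :=
  ⟨fun n => Prod.ext (h.inv n) (h'.inv n), Prod.ext h.one h'.one, fun r hr => Prod.ext
    ((map_ev (MonoidHom.fst G G') _ r).trans (h.rel r hr))
    ((map_ev (MonoidHom.snd G G') _ r).trans (h'.rel r hr))⟩

/-- a homomorphism from its graph -/
theorem hom_of_card {G' : Type*} [Group G'] (g' : ℕ → G') {l : List ℕ} {n : ℕ}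
    (b : Bd ⊥ (gsub (fun k => (g k, g' k)) l) n) (c : n ≤ Nat.card (gsub g l)) :
    ∃ ψ : gsub g l →* G', ∀ k (hk : k ∈ l), ψ ⟨g k, mem_gsub g hk⟩ = g' k := by
  have e := map_gsub (MonoidHom.fst G G') (fun k => (g k, g' k)) l
  let π : gsub (fun k => (g k, g' k)) l →* gsub g l :=
    ((MonoidHom.fst G G').comp (Subgroup.subtype _)).codRestrict _ fun p => e.le ⟨p, p.2, rfl⟩
  have := b.card.1
  let ε := MulEquiv.ofBijective π (Function.Surjective.bijective_of_nat_card_le (fun p => by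
    obtain ⟨q, hq, f⟩ := e.ge p.2
    exact ⟨⟨q, hq⟩, Subtype.ext f⟩) (b.card.2.trans c))
  exact ⟨((MonoidHom.snd G G').comp (Subgroup.subtype _)).comp ε.symm.toMonoidHom, fun k hk =>
    congrArg (fun p => p.1.2) (ε.symm_apply_eq.2 rfl :
      ε.symm ⟨g k, mem_gsub g hk⟩ = ⟨_, mem_gsub (fun k => (g k, g' k)) hk⟩)⟩

theorem bd_cover (h : Sat g 9 Y332a.rels) (hz : ev g Fi22.wz ≠ 1) :
    Bd ⊥ (gsub g (List.range 9)) (64561751654400 * 2) := by
  have m := lab_mem h.one (List.range 9)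
  have c := Fi22.card_cover ((h.sub (List.range 9) (by decide +kernel)).lift m)
    (gsub_lift_top m (gsub_lab _ (List.range 9) 9)) fun e => hz (by
      have := congrArg (Subgroup.subtype _) e
      rw [map_ev, map_one] at this
      exact (congrArg (ev g) (by decide +kernel)).trans ((ev_map g (lab (List.range 9) 9) Fi22.wz).trans this))
  have : Finite (gsub g (List.range 9)) := Nat.finite_of_card_ne_zero (by rw [c]; norm_num)
  exact Bd.of_card c.le

/-- the universal property of the double cover of Fi22 -/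
theorem exists_homH (h : Sat g 9 Y332a.rels) : ∃ φ : Fi23.H →* G, ∀ k, k < 9 → φ (Fi23.sH k) = g k := by
  obtain ⟨ψ, hψ⟩ := hom_of_card g (bd_cover (sat_prod Fi23.satH h) fun e => Fi23.zH_ne
    ((map_ev (MonoidHom.fst _ G) (fun k => (Fi23.sH k, g k)) _).symm.trans (congrArg Prod.fst e)))
    (by rw [Fi23.topH, Subgroup.card_top, Fi23.card_H])
  exact ⟨ψ.comp ((MonoidHom.id _).codRestrict _ fun x => Fi23.topH.ge (Subgroup.mem_top x)),
    fun k hk => hψ k (List.mem_range.2 hk)⟩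

theorem bd_Q' (h : Sat g 11 RK) : Bd ⊥ (gsub g fQ) 64561751654400 := by
  obtain ⟨ψ, hψ⟩ := Fi22.exists_hom (h.sub fQ (rels' := Fi22.R22) (by decide +kernel))
  have e : gsub g fQ = ψ.range := by
    rw [MonoidHom.range_eq_map, ← Fi22.top, map_gsub, ← gsub_lab g fQ 11]
    exact le_antisymm (gsub_le fun x hx => hψ x (List.mem_range.1 hx) ▸ mem_gsub (fun x => ψ (Fi22.s x)) hx)
      (gsub_le fun x hx => (hψ x (List.mem_range.1 hx)).symm ▸ mem_gsub (fun x => g (lab fQ 11 x)) hx)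
  rw [e]
  have := Finite.of_surjective _ ψ.rangeRestrict_surjective
  exact Bd.of_card (Fi22.card_eq ▸ Nat.card_le_card_of_surjective _ ψ.rangeRestrict_surjective)

theorem bd_K' (h : Sat g 11 RK) (ς : G →* G) (hς : ∀ k, k < 11 → ς (g k) = g (lab τ 11 k))
    (inv : ∀ y, ς (ς y) = y) : Bd (gsub g fQ) (gsub g fK) 2370830336 := by
  obtain ⟨φ, hφ⟩ := exists_homH (h.sub fA (rels' := Y332a.rels) (by decide +kernel))
  let J := gsub g fQ
  have hJ : J ≤ J.comap ς := gsub_le fun k hk => by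
    have := (by decide : ∀ k ∈ fQ, k < 11 ∧ lab τ 11 k ∈ fQ) k hk
    show ς (g k) ∈ J
    rw [hς k this.1]; exact mem_gsub g this.2
  let σ : G ⧸ J → G ⧸ J := Quotient.map' ς fun a b e => by
    rw [QuotientGroup.leftRel_apply] at e ⊢
    rw [← map_inv, ← map_mul]; exact hJ e
  have s1 : ∀ (a : G) (y : G ⧸ J), σ (a • y) = ς a • σ y := fun a y => by
    obtain ⟨y, rfl⟩ := QuotientGroup.mk_surjective y
    exact congrArg QuotientGroup.mk (map_mul ς a y)
  have s2 : ∀ y, σ (σ y) = y := fun y => by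
    obtain ⟨y, rfl⟩ := QuotientGroup.mk_surjective y
    exact congrArg QuotientGroup.mk (inv y)
  have s3 : ∀ y, σ (g 0 • σ y) = g 10 • y := fun y => by rw [s1, s2, hς 0 (by norm_num)]; rfl
  let _ : MulAction Fi23.H (G ⧸ J) := MulAction.compHom _ φ
  have s4 : ∀ k, qH k = true → ∀ y : G ⧸ J, Fi23.sH (ps k) • y = g k • y := fun k hk y => by
    have := qH_lt hk
    rw [show g k = φ (Fi23.sH (ps k)) by
      rw [hφ _ (chkB_all hk).2.1]; interval_cases k <;> first | rfl | exact Bool.noConfusion hk]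
    rfl
  obtain ⟨Y, y1, y2, y3, y4, y5⟩ := mainH (σ := σ) (s := fun k => Fi23.sH (ps k)) (y := ((1 : G) : G ⧸ J))
    (fun k hk => (congrArg Fi23.s (chkB_all hk).2.2).trans (E_s (qH_lt hk)).symm) s2
    (fun k hk y => by
      have := qB_lt hk
      rw [s4 k (qB_A hk).2.2, s1, s4 _ (qB_A (qB_A hk).2.1).2.2, hς k (by omega)]
      interval_cases k <;> first | rfl | exact Bool.noConfusion hk)
    (fun k hk y => by
      have := (qC_H hk).2
      have d : Commute (g 10) (g k) := h.comm (by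
        interval_cases k <;> first | decide +kernel | exact Bool.noConfusion hk)
      rw [s4 0 rfl, s4 0 rfl, s3, s3, s4 k (qC_H hk).1, s4 k (qC_H hk).1, ← mul_smul, d.eq, mul_smul])
    (fun k hk => by
      have : k < 10 := tb_lt (by norm_num) hk
      have a : qH k = true ∧ k ∈ fQ := by
        interval_cases k <;> first | exact ⟨rfl, by decide⟩ | exact Bool.noConfusion hk
      exact (s4 k a.1 _).trans (smul_one_coset.2 (mem_gsub g a.2)))
    (congrArg QuotientGroup.mk (map_one ς))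
  have k0 : ∀ k, qH k = true → ∀ z ∈ Y, g k • z ∈ Y := fun k hk z hz => s4 k hk z ▸ y4 _ z hz
  have k1 : gsub g fK ≤ (stabilizer G Y) := gsub_le fun k hk => by
    have a : ∀ z ∈ Y, g k • z ∈ Y := fun z hz => by
      rcases (by decide : ∀ k ∈ fK, k = 10 ∨ qH k = true) k hk with rfl | a
      · exact s3 z ▸ y5 _ (k0 0 rfl _ (y5 z hz))
      · exact k0 k a z hz
    exact mem_stabilizer_set.2 fun z => ⟨fun b => by
      simpa [← mul_smul, h.sq] using a _ b, a z⟩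
  have k2 : orbit (gsub g fK) ((1 : G) : G ⧸ J) ⊆ Y := by
    rintro _ ⟨a, rfl⟩
    exact (mem_stabilizer_set.1 (k1 a.2) _).2 y1
  rw [Bd, ← stabilizer_quotient (gsub g fQ), relIndex_stabilizer]
  exact ⟨Set.ncard_ne_zero_of_mem (mem_orbit_self _) (y2.subset k2), (Set.ncard_le_ncard k2 y2).trans y3⟩

/-- the order bound -/
theorem bd_Y333 (h : Sat g 11 RK) : Bd ⊥ (gsub g fK) (64561751654400 * 2370830336) := by
  have s := sat_prod h (h.sub τ (rels' := RK) (by decide +kernel))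
  have b := ((bd_Q' s).trans (bd_K' s (MulEquiv.prodComm (M := G) (N := G)).toMonoidHom (fun k hk => Prod.ext rfl
    (congrArg g ((by decide : ∀ k, k < 11 → k = lab τ 11 (lab τ 11 k)) k hk))) fun _ => rfl) bot_le
    (gsub_mono _ (by decide))).card
  have := b.1
  have f := (MonoidHom.fst G G).subgroupMap_surjective (gsub (fun k => (g k, g (lab τ 11 k))) fK)
  have := Finite.of_surjective _ f
  have c := (Nat.card_le_card_of_surjective _ f).trans b.2
  rw [map_gsub] at this c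
  exact Bd.of_card (K := gsub (fun k => MonoidHom.fst G G (g k, g (lab τ 11 k))) fK) c

theorem satK (h : Sat g 11 RB) : Sat g 11 RK := by
  have k : ∀ {g : ℕ → G}, Sat g 11 RB → (∀ R ∈ Y332a.rels, ev g (R.map (lab fA 11)) = 1) ∧
      ∀ R ∈ Fi22.R22, ev g (R.map (lab fQ 11)) = 1 := fun {g} h => by
    have a := rep_conj (m := 10) h [3, 2, 1, 3, 8, 9, 3, 4, 5] [3, 4, 5, 3, 2, 1, 3, 8, 9] [3, 4, 5] false
      [(0, 60, 0)] (by decide +kernel)
    have a' := ev_eq_one h (rep 10 [3, 2, 1, 3, 4, 5, 3, 8, 9]) (by decide +kernel)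
    have a'' := ev_eq_one h (rep 9 [0, 1, 2, 3, 4, 5, 8]) (by decide +kernel)
    have b := ev_eq_one h (rep 9 [0, 1, 2, 3, 8, 9, 4]) (by decide +kernel)
    have c := ev_eq_one (sat_τ h) (rep 9 [9, 8, 3, 2, 1, 0, 4]) (by decide +kernel)
    replace c := (ev_map g (lab τ 11) _).trans c
    exact ⟨fun R hR => (ev_map g _ R).trans
        ((((h.add a').add a'').sub fA (rels' := Y332a.rels) (by decide +kernel)).rel R hR),
      fun R hR => (ev_map g _ R).trans
        (((((h.add a).add b).add c).sub fQ (rels' := Fi22.R22) (by decide +kernel)).rel R hR)⟩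
  have t : ∀ {f f' : List ℕ} {R : List ℕ}, f' = f.map (lab τ 11) →
      ev (fun k => g (lab τ 11 k)) (R.map (lab f 11)) = 1 → ev g (R.map (lab f' 11)) = 1 := by
    rintro f _ R rfl e
    replace e := (ev_map g (lab τ 11) _).trans e
    rw [List.map_map] at e
    exact (congrArg (ev g) (List.map_congr_left fun x _ => (List.getD_map f 11 (lab τ 11)))).trans e
  refine ⟨h.inv, h.one, fun R hR => ?_⟩
  simp only [RK, List.mem_append, List.mem_map] at hR
  rcases hR with (⟨R, a, rfl⟩ | ⟨R, a, rfl⟩) | ⟨R, a, rfl⟩ | ⟨R, a, rfl⟩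
  exacts [(k h).1 R a, t (f := fA) rfl ((k (sat_τ h)).1 R a), (k h).2 R a,
    t (f := fQ) rfl ((k (sat_τ h)).2 R a)]

end grp

end H18.YB
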